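import Groth.Agent.S2949
import Groth.Agent.Dix.K281.ClosedPush
import Groth.Agent.Dix.K281.ClsPull
import Groth.Agent.CurvesA.H1GmPicSurj
import Groth.Agent.Flat2F.HHSeq
import Groth.Agent.Ega2.TensMon
import Groth.Agent.Fga.TwistCoh
import Groth.Agent.Sga67.TensorOps
import Groth.Agent.Sga2.LefPow644
import Groth.Agent.Sga2lef.H79.StalkPara
import Groth.Agent.Lefpen.H705.ClosedPoint
import Groth.Agent.Ega4dA.LocalRingCrit
import Groth.Agent.Sga5.SmoothField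
import Groth.Prelude.Def_Dix
import Groth.Prelude.Def_ExtPow2
import Groth.Prelude.Def_Omega2
import Groth.Prelude.Def_ClSub2
import Mathlib.AlgebraicGeometry.Geometrically.Connected
import Mathlib.AlgebraicGeometry.Limits
import Mathlib.Algebra.CharP.Frobenius

/-! # S19260, node C: from the kernel of `G_m → i_* G_m` to the Brauer groups -/

set_option autoImplicit false
universe u v w
open CategoryTheory CategoryTheory.Limits CategoryTheory.Abelian AlgebraicGeometry Opposite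

namespace K917.NodeC

open Groth.Agent Groth.Agent.CurvesA.H1GmPic


section chase

variable {C : Type u} [Category.{v} C] [Abelian C] [HasExt.{w} C] (Z : C) {S : ShortComplex C} (hS : S.ShortExact)

theorem eq_zero_of_pow {A : Type*} [AddCommGroup A] (l : ℕ) (h : Function.Injective (fun x : A => l • x)) (e : ℕ)
    (x : A) (hx : l ^ e • x = 0) : x = 0 := by
  induction e generalizing x with
  | zero => simpa using hx
  | succ e ih =>
    rw [pow_succ, mul_smul] at hx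
    have h3 := ih _ hx
    exact h (by simpa using h3)

include hS in
theorem comp_f_inj 
    (h1 : Function.Surjective (fun x : Ext Z S.X₂ 1 => x.comp (Ext.mk₀ S.g) (add_zero 1)))
    (g : Ext Z S.X₁ 2) (hg : g.comp (Ext.mk₀ S.f) (add_zero 2) = 0) : g = 0 := by
  obtain ⟨y, hy⟩ := Ext.covariant_sequence_exact₁ Z hS g hg (n₀ := 1) rfl
  obtain ⟨x, hx⟩ := h1 y
  rw [← hy, ← hx]
  simp only []
  rw [Ext.comp_assoc_of_second_deg_zero, hS.comp_extClass, Ext.comp_zero]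

include hS in
theorem chase_inj (l : ℕ)
    (h1 : Function.Surjective (fun x : Ext Z S.X₂ 1 => x.comp (Ext.mk₀ S.g) (add_zero 1)))
    (h2 : Function.Injective (fun x : Ext Z S.X₁ 2 => l • x)) (ξ : Ext Z S.X₂ 2) (e : ℕ) (he : l ^ e • ξ = 0)
    (hξ : ξ.comp (Ext.mk₀ S.g) (add_zero 2) = 0) : ξ = 0 := by
  obtain ⟨g, hg⟩ := Ext.covariant_sequence_exact₂ Z hS ξ hξ
  have h4 : l ^ e • g = 0 := by
    apply comp_f_inj Z hS h1
    let F := AddMonoidHom.mk' (fun e : Ext Z S.X₁ 2 => e.comp (Ext.mk₀ S.f) (add_zero 2))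
      (fun _ _ => Ext.add_comp _ _ _ _)
    change F (l ^ e • g) = 0
    rw [map_nsmul]
    change l ^ e • (g.comp (Ext.mk₀ S.f) (add_zero 2)) = 0
    rw [hg, he]
  rw [← hg, eq_zero_of_pow l h2 e g h4, Ext.zero_comp]

include hS in
theorem chase_surj (l : ℕ)
    (h2 : Function.Surjective (fun x : Ext Z S.X₁ 2 => l • x))
    (h3 : Function.Injective (fun x : Ext Z S.X₁ 3 => l • x)) (η : Ext Z S.X₃ 2) (e : ℕ) (he : l ^ e • η = 0) :
    ∃ ξ : Ext Z S.X₂ 2, (∃ e : ℕ, l ^ e • ξ = 0) ∧ ξ.comp (Ext.mk₀ S.g) (add_zero 2) = η := by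
  have h4 : η.comp hS.extClass (rfl : 2 + 1 = 3) = 0 := by
    apply eq_zero_of_pow l h3 e
    let F := AddMonoidHom.mk' (fun x : Ext Z S.X₃ 2 => x.comp hS.extClass (rfl : 2 + 1 = 3))
      (fun _ _ => Ext.add_comp _ _ _ _)
    change l ^ e • F η = 0
    rw [← map_nsmul, he, map_zero]
  obtain ⟨ξ, hξ⟩ := Ext.covariant_sequence_exact₃ Z hS η rfl h4
  let G := AddMonoidHom.mk' (fun x : Ext Z S.X₂ 2 => x.comp (Ext.mk₀ S.g) (add_zero 2))
    (fun _ _ => Ext.add_comp _ _ _ _)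
  let F := AddMonoidHom.mk' (fun e : Ext Z S.X₁ 2 => e.comp (Ext.mk₀ S.f) (add_zero 2))
    (fun _ _ => Ext.add_comp _ _ _ _)
  have h5 : G (l ^ e • ξ) = 0 := by
    rw [map_nsmul]
    change l ^ e • (ξ.comp (Ext.mk₀ S.g) (add_zero 2)) = 0
    rw [hξ, he]
  obtain ⟨g, hg⟩ := Ext.covariant_sequence_exact₂ Z hS (l ^ e • ξ) h5
  have hsurj : ∀ (e : ℕ) (g : Ext Z S.X₁ 2), ∃ g', l ^ e • g' = g := by
    intro e
    induction e with
    | zero => intro g; exact ⟨g, by simp⟩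
    | succ e ih =>
      intro g
      obtain ⟨g', rfl⟩ := ih g
      obtain ⟨g'', hg''⟩ := h2 g'
      refine ⟨g'', ?_⟩
      rw [pow_succ, mul_smul]
      congr 1
  obtain ⟨g', rfl⟩ := hsurj e g
  refine ⟨ξ - F g', ⟨e, ?_⟩, ?_⟩
  · rw [smul_sub, sub_eq_zero, ← hg]
    change F (l ^ e • g') = _
    rw [map_nsmul]
  · change G (ξ - F g') = η
    rw [map_sub]
    have h6 : G (F g') = 0 := by
      change (g'.comp (Ext.mk₀ S.f) (add_zero 2)).comp (Ext.mk₀ S.g) (add_zero 2) = 0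
      rw [Ext.comp_assoc_of_third_deg_zero, Ext.mk₀_comp_mk₀, S.zero, Ext.mk₀_zero, Ext.comp_zero]
    rw [h6, sub_zero]
    exact hξ

end chase


section geometry

variable {X : Scheme.{u}} (𝓘 : X.IdealSheafData)

theorem vanish (N : ℕ) (hN : 4 ≤ N) (hinv : PicF.IsInvertible (ClSub.idealMod 𝓘))
    (h : ∀ n i : ℕ, 1 ≤ n → i + 1 ≤ N → Subsingleton (Coh.HH X
      (CohB1.tensorMod (CohB1.tensorPow (ClSub.idealMod 𝓘) n) (Coh.structureModule X)) i))
    (m : ℕ) (hm : 1 ≤ m) (i : ℕ) (hi : i = 1 ∨ i = 2) :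
    Subsingleton (Coh.HH X ((DCoh.tensorBi.obj (CohB1.tensorPow (ClSub.idealMod 𝓘) m)).obj (ClSub.quotMod 𝓘)) i) := by
  have hP : PicF.IsInvertible (CohB1.tensorPow (ClSub.idealMod 𝓘) m) :=
    Groth.Agent.Fdesc.LocGen.isInvertible_tensorPow hinv m
  have hS := Groth.Agent.Fga.TwistCoh.shortExact_tensorBi hP _ (Groth.Agent.Sga2.LefPow644.shortExact_idealMod 𝓘)
  refine Groth.Agent.Flat2F.HHSeq.subsingleton_HH_right hS i (h m i hm (by omega)) ?_
  exact Groth.Agent.Flat2F.HHSeq.subsingleton_HH_of_iso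
    (Groth.Agent.Ega2.Tens.runit (CohB1.tensorPow (ClSub.idealMod 𝓘) (m + 1))) (i + 1)
    (h (m + 1) (i + 1) (by omega) (by omega))

theorem pic_surj (k : Type u) [Field k] (f : X ⟶ Spec (CommRingCat.of k)) [IsProper f] (N : ℕ) (hN : 4 ≤ N)
    [SmoothOfRelativeDimension N f]
    (L : X.Modules) (hL : ClSub.IsInverseOf L (ClSub.idealMod 𝓘)) (hamp : CohB1.IsAmple L)
    (h : ∀ n i : ℕ, 1 ≤ n → i + 1 ≤ N → Subsingleton (Coh.HH X
      (CohB1.tensorMod (CohB1.tensorPow (ClSub.idealMod 𝓘) n) (Coh.structureModule X)) i))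
    (F : 𝓘.subscheme.Modules) (hF : PicF.IsInvertible F) :
    ∃ M : X.Modules, PicF.IsInvertible M ∧ Nonempty ((Scheme.Modules.pullback 𝓘.subschemeι).obj M ≅ F) := by
  let _ : X.Over (Spec (CommRingCat.of k)) := ⟨f⟩
  have hp : IsProper (X ↘ (Spec (CommRingCat.of k))) := inferInstanceAs (IsProper f)
  have hsm : Smooth f := SmoothOfRelativeDimension.smooth N f
  have hreg := Groth.Agent.Sga5.SmoothField.isRegularLocalRing_stalk f
  have hD := Groth.Agent.Dix.IdealModCartier.isEffCartierIdeal_of_isInverseOf hL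
  have hdim : ∀ x : X, IsClosed ({x} : Set X) → (2 : WithBot ℕ∞) ≤ ringKrullDim (X.presheaf.stalk x) := by
    intro x hx
    rw [Groth.Agent.Lefpen.H705.ClosedPoint.ringKrullDim_stalk f N x hx]
    exact_mod_cast (show 2 ≤ N by omega)
  refine (Groth.Agent.S2949.result k X 𝓘 L hL hamp (fun x hx => ?_)
    (vanish 𝓘 N hN (Groth.Agent.Dix.IdealModCartier.isInvertible_idealMod hD) h) (fun x hx _ => ?_)).2 F hF
  · exact Groth.Agent.Sga5.SmoothField.two_le_depth f x (hdim x hx)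
  · exact ((Groth.Agent.Ega4dA.LocalRingCrit.isParafactorialLocalRing_iff _).1
      (Groth.Agent.Sga2lef.H79.StalkPara.isParafactorialLocalRing_of_isRegularLocalRing _ (hreg x)
        (hdim x hx))).2

theorem HGmPull_one_surj [PreservesFiniteLimits (EtCoh.pull 𝓘.subschemeι)]
    (h : ∀ F : 𝓘.subscheme.Modules, PicF.IsInvertible F → ∃ M : X.Modules, PicF.IsInvertible M ∧
      Nonempty ((Scheme.Modules.pullback 𝓘.subschemeι).obj M ≅ F)) :
    Function.Surjective (EtLim.HGmPull 𝓘.subschemeι 1) := by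
  intro y
  obtain ⟨F, hF, rfl⟩ := exists_clsL_eq y
  obtain ⟨M, hM, ⟨e⟩⟩ := h F hF
  have hM' : PicF.IsInvertible ((Scheme.Modules.pullback 𝓘.subschemeι).obj M) :=
    Groth.Agent.Fdesc.LocGen.isInvertible_pullback _ hM
  refine ⟨clsL M hM, ?_⟩
  rw [K281.ClsPull.HGmPull_clsL 𝓘.subschemeι M hM hM']
  exact clsL_congr hM' hF e

theorem nodeC (k : Type u) [Field k] (p : ℕ) [Fact p.Prime] [CharP k p] (hF : (frobenius k p).Finite)
    (X : Scheme.{u}) (f : X ⟶ Spec (CommRingCat.of k)) [IsProper f] (N : ℕ) (hN : 4 ≤ N)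
    [SmoothOfRelativeDimension N f] [GeometricallyConnected f]
    (𝓘 : X.IdealSheafData) (L : X.Modules) (hL : ClSub.IsInverseOf L (ClSub.idealMod 𝓘)) (hamp : CohB1.IsAmple L)
    [Smooth (𝓘.subschemeι ≫ f)]
    (hsa : ∀ (q : ℕ) (Ω : X.Modules), ExtPow.IsExtPow q (Omega.sheaf (specULiftZIsTerminal.from X)) Ω → ∀ n i : ℕ, 1 ≤ n → i + q + 1 ≤ N → Subsingleton (Coh.HH X (CohB1.tensorMod (CohB1.tensorPow (ClSub.idealMod 𝓘) n) Ω) i))
    [PreservesFiniteLimits (EtCoh.pull 𝓘.subschemeι)]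
    (l : ℕ)
    (h2 : Function.Bijective (fun x : EtCoh.H X (kernel (EtLim.GmPush 𝓘.subschemeι)) 2 => l • x))
    (h3 : Function.Injective (fun x : EtCoh.H X (kernel (EtLim.GmPush 𝓘.subschemeι)) 3 => l • x)) :
    (∀ ξ : Dix.BrCoh X, (∃ e : ℕ, l ^ e • ξ = 0) → EtLim.HGmPull 𝓘.subschemeι 2 ξ = 0 → ξ = 0) ∧
    (∀ η : Dix.BrCoh 𝓘.subscheme, (∃ e : ℕ, l ^ e • η = 0) →
      ∃ ξ : Dix.BrCoh X, (∃ e : ℕ, l ^ e • ξ = 0) ∧ EtLim.HGmPull 𝓘.subschemeι 2 ξ = η) := by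
  have hepi : Epi (EtLim.GmPush 𝓘.subschemeι) := K281.ClosedGm.epi_gmPush 𝓘.subschemeι
  have hS : (ShortComplex.mk (kernel.ι (EtLim.GmPush 𝓘.subschemeι)) (EtLim.GmPush 𝓘.subschemeι)
      (kernel.condition _)).ShortExact :=
    { exact := ShortComplex.exact_of_f_is_kernel _ (kernelIsKernel _) }
  have hbij := fun n => K281.ClosedPush.HofPush_bijective 𝓘.subschemeι (EtCoh.Gm 𝓘.subscheme) n
  have hcomp : ∀ (n : ℕ) (x : EtCoh.H X (EtCoh.Gm X) n), EtLim.HGmPull 𝓘.subschemeι n x =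
      EtLim.HofPush 𝓘.subschemeι (EtCoh.Gm 𝓘.subscheme) n
        (Ext.comp x (Ext.mk₀ (EtLim.GmPush 𝓘.subschemeι)) (add_zero n)) := fun n x => rfl
  have hsurj1 : Function.Surjective (fun x : Ext (EtCoh.const X ℤ) (EtCoh.Gm X) 1 =>
      x.comp (Ext.mk₀ (EtLim.GmPush 𝓘.subschemeι)) (add_zero 1)) := by
    intro y
    obtain ⟨x, hx⟩ := HGmPull_one_surj 𝓘 (pic_surj 𝓘 k f N hN L hL hamp (fun n i hn hi =>
      hsa 0 _ (Groth.Agent.Sga67.TensorOps.isExtPow_zero _) n i hn (by omega)))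
      (EtLim.HofPush 𝓘.subschemeι (EtCoh.Gm 𝓘.subscheme) 1 y)
    exact ⟨x, (hbij 1).1 hx⟩
  refine ⟨?_, ?_⟩
  · rintro ξ ⟨e, he⟩ hξ
    rw [hcomp] at hξ
    have hξ' := (hbij 2).1 (hξ.trans (map_zero _).symm)
    exact chase_inj (EtCoh.const X ℤ) hS l hsurj1 h2.1 ξ e he hξ'
  · rintro η ⟨e, he⟩
    obtain ⟨η', rfl⟩ := (hbij 2).2 η
    have he' : l ^ e • η' = 0 := by
      apply (hbij 2).1
      rw [map_nsmul, he, map_zero]
    obtain ⟨ξ, hξ, hξ'⟩ := chase_surj (EtCoh.const X ℤ) hS l h2.2 h3 η' e he'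
    exact ⟨ξ, hξ, by rw [hcomp]; exact congrArg _ hξ'⟩

end geometry

end K917.NodeC
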