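import Groth.Agent.Sga5.SmoothField
import Groth.Agent.CohtopA.GmDivFinal
import Groth.Prelude.Def_Dix

/-! # S19259, node E: `H²(X_ét, G_m)` is torsion for `X` smooth and quasi-compact over a field -/

set_option autoImplicit false
universe u
open CategoryTheory CategoryTheory.Limits AlgebraicGeometry Opposite

namespace K917.NodeE

theorem nodeE (k : Type u) [Field k] (X : Scheme.{u}) (f : X ⟶ Spec (CommRingCat.of k)) [Smooth f] [CompactSpace X]
    (ξ : Dix.BrCoh X) : ∃ n : ℕ, 0 < n ∧ n • ξ = 0 := by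
  have _ : IsLocallyNoetherian X := Groth.Agent.Sga5.SmoothField.isLocallyNoetherian f
  have _ : IsNoetherian X := {}
  have _ : Groth.Agent.CohtopA.GmDivGen.ELF X := by
    refine ⟨fun U => ⟨?_, fun u => ?_, fun u => Groth.Agent.Sga5.SmoothField.ufd_etale f U u⟩⟩
    · have hU : Etale (X := U.left) (Y := X) U.hom := U.prop
      exact LocallyOfFiniteType.isLocallyNoetherian (X := U.left) (Y := X) U.hom
    · have := Groth.Agent.Sga5.SmoothField.isRegularLocalRing_stalk_etale f U u
      exact (Groth.Agent.S2821.result (U.left.presheaf.stalk u)).1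
  have h := Groth.Agent.CohtopA.GmDivFinal.isAddTorsion_H_Gm X le_rfl ξ
  obtain ⟨n, hn, hn'⟩ := isOfFinAddOrder_iff_nsmul_eq_zero.1 h
  exact ⟨n, hn, hn'⟩

end K917.NodeE
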